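import Cfsg.Agent.Lib.TwoSizes.Main
import Cfsg.Agent.S4034

/-!
# Two class sizes of p-regular elements: the contradiction for a prime other than p
-/

set_option autoImplicit false

namespace Cfsg.Lib.TwoSizes

open Subgroup Cfsg

variable {G : Type*} [Group G] [Finite G] {p m r : ℕ} [hr : Fact r.Prime] (D : Setup p m r G)

theorem Setup.index_sup : ∃ k : ℕ, (D.C ⊔ (D.R : Subgroup G)).index = p ^ k := by
  refine ⟨_, Nat.eq_prime_pow_of_unique_prime_dvd Subgroup.index_ne_zero_of_finite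
    fun {t} ht htd => ?_⟩
  by_contra htp
  have : Fact t.Prime := ⟨ht⟩
  by_cases htr : t = r
  · refine D.R.not_dvd_index ((dvd_of_eq htr.symm).trans (htd.trans ?_))
    exact index_dvd_of_le le_sup_right
  · obtain ⟨S, hS⟩ := D.exists_sylow_le (t := t) htp htr
    exact S.not_dvd_index (htd.trans (index_dvd_of_le (hS.trans le_sup_left)))

theorem Setup.map_sup_le : (D.C ⊔ (D.R : Subgroup G)).map (QuotientGroup.mk' (center G)) ≤
    centralizer ({(D.a : G ⧸ center G)} : Set (G ⧸ center G)) := by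
  refine map_le_iff_le_comap.mpr (sup_le (fun g hg => ?_) fun g hg => ?_)
  · rw [mem_comap, mem_cent_iff]
    exact (mem_cent_iff.mp hg).map (QuotientGroup.mk' (center G))
  · rw [mem_comap, mem_cent_iff, commute_iff_eq, QuotientGroup.mk'_apply,
      ← QuotientGroup.mk_mul, ← QuotientGroup.mk_mul, QuotientGroup.eq]
    have h := D.hRa g⁻¹ (inv_mem hg)
    have h2 := (inferInstance : (center G).Normal).conj_mem _ h D.a⁻¹
    simpa [mul_assoc] using h2

theorem Setup.solvable_closure :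
    Group.IsSolvable (normalClosure ({(D.a : G ⧸ center G)} : Set (G ⧸ center G))) := by
  obtain ⟨k, hk⟩ := D.index_sup
  have h1 := (index_dvd_of_le D.map_sup_le).trans
    (index_map_dvd (D.C ⊔ (D.R : Subgroup G)) (QuotientGroup.mk'_surjective (center G)))
  rw [hk] at h1
  obtain ⟨j, -, hj⟩ := (Nat.dvd_prime_pow D.hp).mp h1
  exact Cfsg.Agent.S4037.result _ D.hp j (by rw [Cfsg.Agent.S4035.carrier_ncard_eq_index, hj])

/-- The product of the p-core and the centre. -/
abbrev coreCenter (p : ℕ) (G : Type*) [Group G] : Subgroup G := Cfsg.pCore p G ⊔ center G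

theorem coreCenter_pow {u : G} [hp : Fact p.Prime] (hu : u ∈ coreCenter p G) :
    ∃ k : ℕ, u ^ p ^ k ∈ center G := by
  obtain ⟨y, hy, z, hz, rfl⟩ := mem_sup_of_normal_right.mp hu
  obtain ⟨k, hk⟩ := PW.of_isPGroup (Cfsg.Lib.Core.pCore_isPGroup p G) hy
  refine ⟨k, ?_⟩
  rw [(show Commute y z from mem_center_iff.mp hz y).mul_pow, hk, one_mul]
  exact pow_mem hz _

theorem mem_center_of_PW {t : ℕ} [hp : Fact p.Prime] (ht : t.Prime) (htp : t ≠ p) {u : G}
    (hu : u ∈ coreCenter p G) (hut : PW t u) : u ∈ center G := by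
  obtain ⟨k, hk⟩ := coreCenter_pow hu
  obtain ⟨j, hj⟩ := hut
  exact mem_of_pow_mem_group hk (by rw [hj]; exact one_mem _)
    (((Nat.coprime_primes hp.out ht).mpr htp.symm).pow k j)

/-- A normal subgroup which is a p-group over the centre lies in `O_p(G) Z(G)`. -/
theorem le_coreCenter [hp : Fact p.Prime] {W : Subgroup G} [hWn : W.Normal]
    (hW : ∀ w ∈ W, ∃ k : ℕ, w ^ p ^ k ∈ center G) : W ≤ coreCenter p G := by
  intro w hw
  obtain ⟨T⟩ : Nonempty (Sylow p W) := inferInstance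
  have hcent : ∀ t : ℕ, t.Prime → t ≠ p → ∀ x : W, PW t (x : G) → (x : G) ∈ center G := by
    intro t ht htp x hx
    obtain ⟨k, hk⟩ := hW x x.2
    obtain ⟨j, hj⟩ := hx
    exact mem_of_pow_mem_group hk (by rw [hj]; exact one_mem _)
      (((Nat.coprime_primes hp.out ht).mpr htp.symm).pow k j)
  set N := normalizer ((T : Subgroup W) : Set W)
  have hN : N = ⊤ := by
    rw [← index_eq_one, Nat.eq_one_iff_not_exists_prime_dvd]
    intro t ht htd
    have : Fact t.Prime := ⟨ht⟩
    by_cases htp : t = p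
    · exact T.not_dvd_index ((dvd_of_eq htp.symm).trans (htd.trans (index_dvd_of_le le_normalizer)))
    obtain ⟨U⟩ : Nonempty (Sylow t W) := inferInstance
    refine U.not_dvd_index (htd.trans (index_dvd_of_le fun x hx => ?_))
    have hxc : x ∈ center W := by
      obtain ⟨j, hj⟩ := PW.of_isPGroup U.2 hx
      have := hcent t ht htp x ⟨j, by simpa using congrArg Subtype.val hj⟩
      exact mem_center_iff.mpr fun y => Subtype.ext (mem_center_iff.mp this y)
    refine mem_normalizer_iff.mpr fun y => ?_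
    rw [(mem_center_iff.mp hxc y).symm, mul_inv_cancel_right]
  have hTn : (T : Subgroup W).Normal := normalizer_eq_top_iff.mp hN
  have hTG : (T : Subgroup W).map W.subtype ≤ Cfsg.pCore p G :=
    Cfsg.Lib.Core.le_pCore_of_isSubnormal (hTn.isSubnormal.trans' hWn.isSubnormal) (T.2.map _)
  refine mem_of_parts fun t ht htw i hi => ?_
  by_cases htp : t = p
  · subst htp
    obtain ⟨j, hj⟩ := hi
    have hpw : IsPGroup t (zpowers (⟨w ^ i, pow_mem hw i⟩ : W)) :=
      PW.isPGroup_zpowers ⟨j, Subtype.ext (by simpa using hj)⟩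
    obtain ⟨T', hT'⟩ := hpw.exists_le_sylow
    have heq : T' = T := by
      obtain ⟨g, hg⟩ := MulAction.exists_smul_eq W T T'
      rw [← hg, Sylow.smul_eq_iff_mem_normalizer]
      show g ∈ N
      rw [hN]
      exact mem_top g
    subst heq
    exact (le_sup_left : Cfsg.pCore _ G ≤ _) (hTG (mem_map_of_mem W.subtype (hT' (mem_zpowers _))))
  · exact (le_sup_right : center G ≤ _) (hcent t ht htp ⟨w ^ i, pow_mem hw i⟩ hi)

theorem Setup.a_not_mem : D.a ∉ coreCenter p G := fun h => by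
  have : Fact p.Prime := ⟨D.hp⟩
  exact D.haZ (mem_center_of_PW hr.out D.hrp h (PW.of_isPGroup D.R.2 D.haR))

include D in
/-- A normal subgroup over `O_p(G) Z(G)`, an `s`-group modulo it for a prime `s` other than `p`. -/
theorem Setup.exists_W : ∃ (s : ℕ) (W : Subgroup G), s.Prime ∧ s ≠ p ∧ W.Normal ∧
    coreCenter p G ≤ W ∧ ¬ W ≤ coreCenter p G ∧
    (∀ w ∈ W, ∃ k : ℕ, w ^ s ^ k ∈ coreCenter p G) ∧
    ∃ k : ℕ, (coreCenter p G).relIndex W = s ^ k := by
  have : Fact p.Prime := ⟨D.hp⟩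
  set U := coreCenter p G
  have hle : center G ≤ U.comap (MonoidHom.id G) := le_sup_right
  set f := QuotientGroup.map (center G) U (MonoidHom.id G) hle
  have hfs : Function.Surjective f := fun x => by
    obtain ⟨g, rfl⟩ := QuotientGroup.mk_surjective x
    exact ⟨(g : G ⧸ center G), rfl⟩
  set M₁ := normalClosure ({(D.a : G ⧸ center G)} : Set (G ⧸ center G))
  set M₂ := M₁.map f
  have hM₂n : M₂.Normal := Subgroup.Normal.map inferInstance f hfs
  have hne : M₂ ≠ ⊥ := fun hbot => D.a_not_mem ((QuotientGroup.eq_one_iff D.a).mp (by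
    rw [← mem_bot, ← hbot]
    exact ⟨_, subset_normalClosure rfl, rfl⟩))
  have hs₂ : Group.IsSolvable M₂ := by
    have := D.solvable_closure
    exact Group.isSolvable_of_surjective (f := f.subgroupMap M₁) (f.subgroupMap_surjective M₁)
  obtain ⟨M, hM, hMle⟩ := Cfsg.Lib.Core.exists_isMinNormal hM₂n hne
  obtain ⟨-, s, hs, -, hsP⟩ := Cfsg.Lib.Core.minimal_solvable_elementary hM
    (Cfsg.Lib.Core.isSolvable_of_le hMle hs₂)
  have : Fact s.Prime := ⟨hs⟩
  have hMn := hM.1
  set W := M.comap (QuotientGroup.mk' U)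
  have hUW : U ≤ W := fun u hu => by
    rw [mem_comap, QuotientGroup.mk'_apply, (QuotientGroup.eq_one_iff u).mpr hu]
    exact one_mem _
  have hWU : ¬ W ≤ U := fun hW => hM.2.1 (eq_bot_iff.mpr fun x hx => by
    obtain ⟨g, rfl⟩ := QuotientGroup.mk_surjective x
    rw [mem_bot, QuotientGroup.eq_one_iff]
    exact hW hx)
  have hpow : ∀ w ∈ W, ∃ k : ℕ, w ^ s ^ k ∈ U := fun w hw => by
    obtain ⟨k, hk⟩ := PW.of_isPGroup hsP (x := (w : G ⧸ U)) hw
    rw [← QuotientGroup.mk_pow, QuotientGroup.eq_one_iff] at hk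
    exact ⟨k, hk⟩
  refine ⟨s, W, hs, ?_, inferInstance, hUW, hWU, hpow, ?_⟩
  · intro hsp
    refine hWU (le_coreCenter fun w hw => ?_)
    obtain ⟨k, hk⟩ := hpow w hw
    obtain ⟨j, hj⟩ := coreCenter_pow hk
    rw [hsp] at hj
    rw [← pow_mul, ← pow_add] at hj
    exact ⟨k + j, hj⟩
  · obtain ⟨k, hk⟩ := IsPGroup.iff_card.mp hsP
    refine ⟨k, ?_⟩
    rw [← hk, ← Subgroup.relIndex_bot_left M]
    conv_lhs => rw [← QuotientGroup.ker_mk' U, ← MonoidHom.comap_bot]
    rw [Subgroup.relIndex_comap, map_comap_eq_self_of_surjective (QuotientGroup.mk'_surjective U)]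

include D in
theorem Setup.contradiction : False := by
  have : Fact p.Prime := ⟨D.hp⟩
  obtain ⟨q, hqr, hq, hqp, hqNC⟩ := D.h2 r
  have : Fact q.Prime := ⟨hq⟩
  obtain ⟨S, hS⟩ := D.exists_sylow_le (t := q) hqp hqr
  obtain ⟨z, hzC, hzq, hzZ⟩ := D.h.exists_NC_mem D.hp hq hqp hqNC D.reg_a D.haZ
  have hzS := D.mem_of_PW hqp hS hzC hzq
  have hzreg := hzq.reg hq D.hp hqp
  -- an element centralising S lies in C
  have hcS : ∀ g : G, (∀ v ∈ (S : Subgroup G), Commute g v) → g ∈ D.C := fun g hg =>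
    (D.cent_eq hzreg hzZ hzC).ge (mem_cent_iff.mpr (hg z hzS))
  have hnS : ∀ g ∈ normalizer (D.C : Set G), ∀ v ∈ (S : Subgroup G),
      g * v * g⁻¹ ∈ (S : Subgroup G) := fun g hg v hv =>
    D.mem_of_PW hqp hS ((mem_normalizer_iff.mp hg v).mp (hS hv))
      ((PW.of_isPGroup S.2 hv).conj g)
  obtain ⟨s, W, hs, hsp, hWn, hUW, hWU, hpow, ks, hks⟩ := D.exists_W
  have : Fact s.Prime := ⟨hs⟩
  -- a Sylow s-subgroup of G, meeting W
  obtain ⟨T, hTr, hTC⟩ : ∃ T : Sylow s G,
      (s = r → (T : Subgroup G) ≤ normalizer (D.C : Set G) ∧ ∀ g ∈ (T : Subgroup G), PW r g) ∧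
      (s ≠ r → (T : Subgroup G) ≤ D.C) := by
    by_cases hsr : s = r
    · subst hsr
      exact ⟨D.R, fun _ => ⟨D.R_le_normalizer, fun g hg => PW.of_isPGroup D.R.2 hg⟩,
        fun h => absurd rfl h⟩
    · obtain ⟨T, hT⟩ := D.exists_sylow_le (t := s) hsp hsr
      exact ⟨T, fun h => absurd h hsr, fun _ => hT⟩
  set W₀ := (T : Subgroup G) ⊓ W with hW₀
  have hrel : ¬ s ∣ (T : Subgroup G).relIndex W := fun h =>
    T.not_dvd_index (h.trans (Cfsg.Agent.S4034.relIndex_dvd_index_of_normal_right _ W))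
  have hWle : W ≤ coreCenter p G ⊔ W₀ := by
    rw [← relIndex_eq_one]
    have h1 : (coreCenter p G ⊔ W₀).relIndex W ∣ (coreCenter p G).relIndex W :=
      relIndex_dvd_of_le_left W le_sup_left
    have h2 : (coreCenter p G ⊔ W₀).relIndex W ∣ (T : Subgroup G).relIndex W := by
      rw [← inf_relIndex_right (T : Subgroup G) W]
      exact relIndex_dvd_of_le_left W le_sup_right
    rw [hks] at h1
    obtain ⟨i, -, hi⟩ := (Nat.dvd_prime_pow hs).mp h1
    cases i with
    | zero => simpa using hi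
    | succ i => exact absurd ((dvd_pow_self s i.succ_ne_zero).trans (hi ▸ h2)) hrel
  have hW₀Z : ¬ W₀ ≤ center G := fun hle =>
    hWU (hWle.trans (sup_le le_rfl (hle.trans le_sup_right)))
  have hgen : (⊤ : Subgroup G) ≤ Cfsg.pCore p G ⊔ normalizer (W₀ : Set G) := by
    have hindex : ¬ s ∣ ((T : Subgroup G).subgroupOf W).index := hrel
    let P : Sylow s W :=
      (T.2.comap_of_injective W.subtype Subtype.coe_injective).toSylow hindex
    have hP := Sylow.normalizer_sup_eq_top P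
    have hPmap : (P : Subgroup W).map W.subtype = W₀ := by
      show ((T : Subgroup G).subgroupOf W).map W.subtype = W₀
      rw [subgroupOf_map_subtype]
    rw [hPmap] at hP
    rw [← hP]
    refine sup_le le_sup_right (hWle.trans (sup_le (sup_le le_sup_left ?_) ?_))
    · refine le_trans (fun z hz => mem_normalizer_iff.mpr fun w => ?_) le_sup_right
      rw [(mem_center_iff.mp hz w).symm, mul_inv_cancel_right]
    · exact le_normalizer.trans le_sup_right
  by_cases hW₀C : W₀ ≤ D.C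
  · -- the normaliser of W₀ normalises C
    obtain ⟨w, hw, hwZ⟩ := SetLike.not_le_iff_exists.mp hW₀Z
    have hwreg : (orderOf w).Coprime p := (PW.of_isPGroup T.2 hw.1).reg hs D.hp hsp
    have hwC := D.cent_eq hwreg hwZ (hW₀C hw)
    have hN : normalizer (W₀ : Set G) ≤ normalizer (D.C : Set G) := fun g hg => by
      have hgw := hW₀C ((mem_normalizer_iff.mp hg w).mp hw)
      rw [hwC] at hgw
      have := cent_eq_of_conj_mem D.h D.hp D.h2 hwreg hwZ hgw
      rwa [← hwC] at this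
    obtain ⟨g0, hg0R, hg0C⟩ := D.exists_R_not_mem
    have hg0Z : g0 ∉ center G := fun h =>
      hg0C (mem_cent_iff.mpr (mem_center_iff.mp h D.a).symm)
    have hg0reg : (orderOf g0).Coprime p := (PW.of_isPGroup D.R.2 hg0R).reg hr.out D.hp D.hrp
    have hqm : ¬ q ∣ m := fun h =>
      S.not_dvd_index (h.trans ((dvd_of_eq D.index_C.symm).trans (index_dvd_of_le hS)))
    obtain ⟨T'⟩ : Nonempty (Sylow q (centralizer ({g0} : Set G))) := inferInstance
    have hidx : ¬ q ∣ ((T' : Subgroup _).map (centralizer ({g0} : Set G)).subtype).index := by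
      rw [index_map_subtype]
      exact hq.not_dvd_mul T'.not_dvd_index (by rw [D.h.index_eq g0 hg0reg hg0Z]; exact hqm)
    let S' : Sylow q G := (T'.2.map (centralizer ({g0} : Set G)).subtype).toSylow hidx
    obtain ⟨x, hx⟩ := MulAction.exists_smul_eq G S S'
    obtain ⟨y, hy, n, hn, hyn⟩ := mem_sup_of_normal_left.mp (hgen (mem_top x))
    refine hg0C (hcS g0 fun v hv => ?_)
    have hv' : n⁻¹ * v * n ∈ (S : Subgroup G) := by
      simpa using hnS n⁻¹ (inv_mem (hN hn)) v hv
    have hyv : y * v * y⁻¹ ∈ centralizer ({g0} : Set G) := by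
      have h1 : MulAut.conj x (n⁻¹ * v * n) ∈ (S' : Subgroup G) := by
        rw [← hx, Sylow.coe_subgroup_smul]
        exact smul_mem_pointwise_smul _ _ _ hv'
      obtain ⟨⟨c, hc⟩, -, hcx⟩ := h1
      have : c = y * v * y⁻¹ := by
        rw [show c = MulAut.conj x (n⁻¹ * v * n) from hcx, ← hyn]
        simp [mul_assoc]
      exact this ▸ hc
    have hcS' : g0 * v * g0⁻¹ * v⁻¹ ∈ (S : Subgroup G) :=
      mul_mem (hnS g0 (D.R_le_normalizer hg0R) v hv) (inv_mem hv)
    have hcP : g0 * v * g0⁻¹ * v⁻¹ ∈ Cfsg.pCore p G := by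
      rw [← QuotientGroup.eq_one_iff (N := Cfsg.pCore p G)]
      have h1 := ((mem_cent_iff.mp hyv).map (QuotientGroup.mk' (Cfsg.pCore p G))).eq
      simp only [map_mul, map_inv, QuotientGroup.mk'_apply, (QuotientGroup.eq_one_iff y).mpr hy,
        one_mul, inv_one, mul_one] at h1
      simp only [QuotientGroup.mk_mul, QuotientGroup.mk_inv, ← h1, mul_inv_cancel_right,
        mul_inv_cancel]
    obtain ⟨i, hi⟩ := PW.of_isPGroup S.2 hcS'
    obtain ⟨j, hj⟩ := PW.of_isPGroup (Cfsg.Lib.Core.pCore_isPGroup p G) hcP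
    have h1 : g0 * v * g0⁻¹ * v⁻¹ = 1 := mem_bot.mp (mem_of_pow_mem_group (H := ⊥)
      (mem_bot.mpr hi) (mem_bot.mpr hj) (((Nat.coprime_primes hq D.hp).mpr hqp).pow i j))
    exact mul_inv_eq_iff_eq_mul.mp (mul_inv_eq_one.mp h1)
  · -- W₀ is an r-group outside C
    obtain ⟨g, hg, hgC⟩ := SetLike.not_le_iff_exists.mp hW₀C
    have hsr : s = r := by
      by_contra hsr
      exact hgC (hTC hsr hg.1)
    obtain ⟨hTN, hTr'⟩ := hTr hsr
    have hgN := hTN hg.1
    refine hgC (hcS g fun v hv => ?_)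
    set c := g * v * g⁻¹ * v⁻¹ with hc
    have hcmem : c ∈ (S : Subgroup G) := mul_mem (hnS g hgN v hv) (inv_mem hv)
    have hcW : c ∈ W := by
      have : c = g * (v * g⁻¹ * v⁻¹) := by rw [hc]; simp [mul_assoc]
      rw [this]
      exact mul_mem hg.2 (hWn.conj_mem _ (inv_mem hg.2) v)
    have hcq := PW.of_isPGroup S.2 hcmem
    have hcU : c ∈ coreCenter p G := by
      obtain ⟨k, hk⟩ := hpow c hcW
      obtain ⟨i, hi⟩ := hcq
      exact mem_of_pow_mem_group hk (by rw [hi]; exact one_mem _)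
        (((Nat.coprime_primes hs hq).mpr (by rw [hsr]; exact hqr.symm)).pow k i)
    have hcZ := mem_center_of_PW hq hqp hcU hcq
    have hgv : g * v * g⁻¹ = c * v := by rw [hc]; simp [mul_assoc]
    have hiter : ∀ i : ℕ, g ^ i * v * (g ^ i)⁻¹ = c ^ i * v := by
      intro i
      induction i with
      | zero => simp
      | succ i ih =>
        have h1 : g ^ (i + 1) * v * (g ^ (i + 1))⁻¹ = g * (g ^ i * v * (g ^ i)⁻¹) * g⁻¹ := by
          rw [pow_succ', mul_inv_rev]; simp [mul_assoc]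
        rw [h1, ih, ← mul_assoc, mem_center_iff.mp (pow_mem hcZ i) g]
        rw [mul_assoc (c ^ i), mul_assoc (c ^ i), hgv, ← mul_assoc, pow_succ]
    obtain ⟨j, hj⟩ := hTr' g hg.1
    obtain ⟨i, hi⟩ := hcq
    have hc1 : c ^ r ^ j = 1 := by
      have := hiter (r ^ j)
      rw [hj, one_mul, inv_one, mul_one] at this
      exact right_eq_mul.mp this
    have hc0 : c = 1 := mem_bot.mp (mem_of_pow_mem_group (H := ⊥) (mem_bot.mpr hi)
      (mem_bot.mpr hc1) (((Nat.coprime_primes hq hr.out).mpr hqr).pow i j))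
    rw [hc0, one_mul] at hgv
    exact mul_inv_eq_iff_eq_mul.mp hgv

end Cfsg.Lib.TwoSizes
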