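import Cfsg.Agent.Lib.TwoSizes.Basic

/-!
# Two class sizes of p-regular elements: one prime with noncentral elements
-/

set_option autoImplicit false

namespace Cfsg.Lib.TwoSizes

open Subgroup

theorem exists_split {G : Type*} [Group G] [Finite G] {p q : ℕ} [hp : Fact p.Prime]
    [hq : Fact q.Prime] (hqp : q ≠ p)
    (hc : ∀ t : ℕ, t.Prime → t ≠ p → t ≠ q → ∀ x : G, PW t x → x ∈ center G)
    (P : Sylow p G) (Q : Sylow q G) :
    ∃ A : Subgroup G, A ≤ center G ∧
      Nat.card ↥((P : Subgroup G) ⊔ (Q : Subgroup G)) = Nat.card P * Nat.card Q ∧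
      ((P : Subgroup G) ⊔ (Q : Subgroup G)).Normal ∧
      ((P : Subgroup G) ⊔ (Q : Subgroup G)) ⊓ A = ⊥ ∧
      ((P : Subgroup G) ⊔ (Q : Subgroup G)) ⊔ A = ⊤ := by
  let A : Subgroup G :=
    { carrier := {x | x ∈ center G ∧ (orderOf x).Coprime (p * q)}
      one_mem' := ⟨one_mem _, by simp⟩
      mul_mem' := fun {x y} hx hy => ⟨mul_mem hx.1 hy.1,
        (Nat.Coprime.mul_left hx.2 hy.2).coprime_dvd_left
          (show Commute x y from mem_center_iff.mp hy.1 x).orderOf_mul_dvd_mul_orderOf⟩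
      inv_mem' := fun {x} hx => ⟨inv_mem hx.1, by rw [orderOf_inv]; exact hx.2⟩ }
  have hAZ : A ≤ center G := fun x hx => hx.1
  have hAn : A.Normal := ⟨fun x hx g => by
    rw [mem_center_iff.mp hx.1 g, mul_inv_cancel_right]; exact hx⟩
  have hAcard : ∀ t : ℕ, t.Prime → t ∣ Nat.card A → t ≠ p ∧ t ≠ q := by
    intro t ht htd
    have : Fact t.Prime := ⟨ht⟩
    obtain ⟨⟨x, hxA⟩, hx⟩ := exists_prime_orderOf_dvd_card' (G := A) t htd
    rw [Subgroup.orderOf_mk] at hx
    have h1 := hxA.2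
    rw [hx] at h1
    constructor
    · rintro rfl
      exact ht.ne_one (Nat.eq_one_of_dvd_coprimes h1 dvd_rfl (dvd_mul_right _ _))
    · rintro rfl
      exact ht.ne_one (Nat.eq_one_of_dvd_coprimes h1 dvd_rfl (dvd_mul_left _ _))
  have hAindex : ∀ t : ℕ, t.Prime → t ∣ A.index → t = p ∨ t = q := by
    intro t ht htd
    by_contra hne
    push Not at hne
    have : Fact t.Prime := ⟨ht⟩
    obtain ⟨T⟩ : Nonempty (Sylow t G) := inferInstance
    refine T.not_dvd_index (htd.trans (index_dvd_of_le fun x hx => ?_))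
    have hxt := PW.of_isPGroup T.2 hx
    exact ⟨hc t ht hne.1 hne.2 x hxt, Nat.Coprime.mul_right (hxt.reg ht hp.out hne.1)
      (hxt.reg ht hq.out hne.2)⟩
  have hcop : (Nat.card A).Coprime A.index := Nat.coprime_of_dvd fun t ht h1 h2 =>
    (hAindex t ht h2).elim (hAcard t ht h1).1 (hAcard t ht h1).2
  obtain ⟨H, hH⟩ := Subgroup.exists_right_complement'_of_coprime hcop
  have hHn : H.Normal := by
    rw [← normalizer_eq_top_iff, eq_top_iff, ← hH.sup_eq_top]
    refine sup_le (fun a ha => mem_normalizer_iff.mpr fun w => ?_) le_normalizer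
    rw [(mem_center_iff.mp (hAZ ha) w).symm, mul_inv_cancel_right]
  have hHindex : H.index = Nat.card A := hH.index_eq_card
  have hHcard : Nat.card H = A.index := hH.symm.index_eq_card.symm
  have hsub : ∀ (t : ℕ) [Fact t.Prime] (T : Sylow t G), t = p ∨ t = q →
      (T : Subgroup G) ≤ H := by
    intro t ht T htpq
    rw [← relIndex_eq_one]
    obtain ⟨k, hk⟩ := IsPGroup.iff_card.mp T.2
    have h1 : H.relIndex (T : Subgroup G) ∣ t ^ k := hk ▸ relIndex_dvd_card H _
    obtain ⟨i, -, hi⟩ := (Nat.dvd_prime_pow ht.out).mp h1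
    cases i with
    | zero => simpa using hi
    | succ i =>
      exfalso
      have h2 : t ∣ Nat.card A := by
        refine (dvd_pow_self t i.succ_ne_zero).trans ?_
        rw [← hi, ← hHindex, ← relIndex_top_right]
        exact relIndex_dvd_index_of_normal H (T : Subgroup G) |>.trans (by rw [relIndex_top_right])
      exact htpq.elim (hAcard t ht.out h2).1 (hAcard t ht.out h2).2
  set PQ := (P : Subgroup G) ⊔ (Q : Subgroup G)
  have hPQH : PQ ≤ H := sup_le (hsub p P (Or.inl rfl)) (hsub q Q (Or.inr rfl))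
  have hcopPQ : (Nat.card P).Coprime (Nat.card Q) := by
    obtain ⟨i, hi⟩ := IsPGroup.iff_card.mp P.2
    obtain ⟨j, hj⟩ := IsPGroup.iff_card.mp Q.2
    rw [hi, hj]
    exact ((Nat.coprime_primes hp.out hq.out).mpr hqp.symm).pow i j
  have hdvd : Nat.card P * Nat.card Q ∣ Nat.card PQ :=
    hcopPQ.mul_dvd_of_dvd_of_dvd (card_dvd_of_le le_sup_left) (card_dvd_of_le le_sup_right)
  have hHdvd : Nat.card H ∣ Nat.card P * Nat.card Q := by
    rw [Nat.dvd_iff_prime_pow_dvd_dvd]
    intro t k ht hd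
    rcases Nat.eq_zero_or_pos k with rfl | hk
    · simp
    have htpq := hAindex t ht (hHcard ▸ (dvd_pow_self t hk.ne').trans hd)
    have hdG := hd.trans H.card_subgroup_dvd_card
    rcases htpq with rfl | rfl
    · refine Dvd.dvd.trans ?_ (dvd_mul_right _ _)
      rw [P.card_eq_multiplicity]
      exact pow_dvd_pow _ ((ht.pow_dvd_iff_le_factorization Nat.card_pos.ne').mp hdG)
    · refine Dvd.dvd.trans ?_ (dvd_mul_left _ _)
      rw [Q.card_eq_multiplicity]
      exact pow_dvd_pow _ ((ht.pow_dvd_iff_le_factorization Nat.card_pos.ne').mp hdG)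
  have hPQ : PQ = H := Subgroup.eq_of_le_of_card_ge hPQH
    (Nat.le_of_dvd Nat.card_pos (hHdvd.trans hdvd))
  refine ⟨A, hAZ, ?_, hPQ ▸ hHn, ?_, ?_⟩
  · exact Nat.dvd_antisymm ((card_dvd_of_le hPQH).trans hHdvd) hdvd
  · rw [hPQ, inf_comm]; exact hH.disjoint.eq_bot
  · rw [hPQ, sup_comm]; exact hH.sup_eq_top

end Cfsg.Lib.TwoSizes
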