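import Mathlib

/-!
# Groups acting with a common fixed-point subgroup

A finite group `X` acts on an abelian group `L`, every nontrivial element having exactly the
same fixed-point subgroup `Z`. If `L/Z` has elements for two different primes, `X` has very few
elementary subgroups: a Sylow subgroup which centralises an element modulo `Z` is all of `X`.
-/

set_option autoImplicit false

namespace Cfsg.Lib.TwoSizes

open Subgroup Finset

variable {X L : Type*} [Group X] [CommGroup L] {ψ : X →* MulAut L} {Z : Subgroup L}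

variable (hfix : ∀ x : X, x ≠ 1 → ∀ v : L, ψ x v = v → v ∈ Z)

include hfix

theorem prod_mem_of_subgroup [Finite X] (H : Subgroup X) [Fintype H] (hH : H ≠ ⊥) (v : L) :
    ∏ h : H, ψ (h : X) v ∈ Z := by
  obtain ⟨g, hg⟩ := Subgroup.ne_bot_iff_exists_ne_one.mp hH
  refine hfix g (fun h => hg (Subtype.ext h)) _ ?_
  rw [map_prod]
  refine Fintype.prod_equiv (Equiv.mulLeft g) _ _ fun h => ?_
  simp only [Equiv.coe_mulLeft, Subgroup.coe_mul, map_mul, MulAut.mul_apply]

theorem prod_zpowers_mem [Finite X] {g : X} {r : ℕ} [NeZero r] (hg : orderOf g = r) (hg1 : g ≠ 1)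
    (v : L) : ∏ i : ZMod r, ψ (g ^ i.val) v ∈ Z := by
  refine hfix g hg1 _ ?_
  rw [map_prod]
  refine Fintype.prod_equiv (Equiv.addRight (1 : ZMod r)) _ _ fun i => ?_
  rw [← MulAut.mul_apply, ← map_mul, Equiv.coe_addRight, ← pow_succ']
  refine congrArg (fun y => ψ y v) ?_
  rw [pow_eq_pow_iff_modEq, hg, ← ZMod.natCast_eq_natCast_iff]
  simp

variable (hZ : ∀ x : X, ∀ z ∈ Z, ψ x z = z)

include hZ

/-- Two commuting elements of order `r` spanning a group of order `r²`. -/
theorem pow_mem_of_square [Finite X] {r : ℕ} [hr : Fact r.Prime] {g h : X} (hg : orderOf g = r)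
    (hh : orderOf h = r) (hc : Commute g h) (hnot : g ∉ zpowers h) (v : L) : v ^ r ∈ Z := by
  have hh1 : h ≠ 1 := fun e => hr.out.ne_one (by rw [← hh, e, orderOf_one])
  have hgh : ∀ i : ZMod r, orderOf (g * h ^ i.val) = r := by
    intro i
    refine orderOf_eq_prime ?_ fun e => hnot ?_
    · have e1 : g ^ r = 1 := orderOf_dvd_iff_pow_eq_one.mp hg.dvd
      have e2 : h ^ r = 1 := orderOf_dvd_iff_pow_eq_one.mp hh.dvd
      rw [(hc.pow_right _).mul_pow, ← pow_mul, mul_comm i.val, pow_mul, e1, e2, one_pow, one_mul]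
    · rw [eq_inv_of_mul_eq_one_left e]
      exact inv_mem (pow_mem (mem_zpowers h) _)
  have h1 : ∏ i : ZMod r, ∏ j : ZMod r, ψ ((g * h ^ i.val) ^ j.val) v ∈ Z :=
    Subgroup.prod_mem _ fun i _ => prod_zpowers_mem hfix (hgh i)
      (fun e => hr.out.ne_one (by rw [← hgh i, e, orderOf_one])) v
  rw [Finset.prod_comm, ← Finset.mul_prod_erase _ _ (Finset.mem_univ (0 : ZMod r))] at h1
  have h0 : ∏ i : ZMod r, ψ ((g * h ^ i.val) ^ (0 : ZMod r).val) v = v ^ r := by simp
  rw [h0] at h1
  refine (Subgroup.mul_mem_cancel_right Z ?_).mp h1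
  refine Subgroup.prod_mem _ fun j hj => ?_
  have hj0 : j ≠ 0 := (Finset.mem_erase.mp hj).1
  have heq : ∏ i : ZMod r, ψ ((g * h ^ i.val) ^ j.val) v =
      ψ (g ^ j.val) (∏ i : ZMod r, ψ (h ^ i.val) v) := by
    rw [map_prod]
    refine Fintype.prod_equiv (Equiv.mulRight₀ j hj0) _ _ fun i => ?_
    rw [(hc.pow_right _).mul_pow, map_mul, MulAut.mul_apply, Equiv.mulRight₀_apply, ← pow_mul]
    refine congrArg (ψ (g ^ j.val)) (congrArg (fun y => ψ y v) ?_)
    rw [pow_eq_pow_iff_modEq, hh, ← ZMod.natCast_eq_natCast_iff]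
    simp
  rw [heq]
  have hm := prod_zpowers_mem hfix hh hh1 v
  rw [hZ _ _ hm]
  exact hm

/-- An element of prime order acting fixed-point-freely by conjugation on a normalised subgroup. -/
theorem pow_mem_of_frobenius [Finite X] {r : ℕ} [hr : Fact r.Prime] {g : X} (hg : orderOf g = r)
    (K : Subgroup X) (hK : K ≠ ⊥) (hn : g ∈ normalizer (K : Set X))
    (hC : ∀ k ∈ K, Commute g k → k = 1) (v : L) : v ^ Nat.card K ∈ Z := by
  have := Fintype.ofFinite K
  have hg1 : g ≠ 1 := fun e => hr.out.ne_one (by rw [← hg, e, orderOf_one])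
  have hord : ∀ k : K, orderOf ((k : X) * g * (k : X)⁻¹) = r := fun k => by
    rw [← hg]; exact (MulAut.conj (k : X)).orderOf_eq g
  have h1 : ∏ k : K, ∏ j : ZMod r, ψ (((k : X) * g * (k : X)⁻¹) ^ j.val) v ∈ Z :=
    Subgroup.prod_mem _ fun k _ => prod_zpowers_mem hfix (hord k)
      (fun e => hr.out.ne_one (by rw [← hord k, e, orderOf_one])) v
  rw [Finset.prod_comm, ← Finset.mul_prod_erase _ _ (Finset.mem_univ (0 : ZMod r))] at h1
  have h0 : ∏ k : K, ψ (((k : X) * g * (k : X)⁻¹) ^ (0 : ZMod r).val) v = v ^ Nat.card K := by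
    simp [Nat.card_eq_fintype_card]
  rw [h0] at h1
  refine (Subgroup.mul_mem_cancel_right Z ?_).mp h1
  refine Subgroup.prod_mem _ fun j hj => ?_
  have hj0 : j ≠ 0 := (Finset.mem_erase.mp hj).1
  set c := g ^ j.val with hcdef
  have hcn : c ∈ normalizer (K : Set X) := pow_mem hn _
  have hcC : ∀ k ∈ K, Commute c k → k = 1 := by
    intro k hk hck
    refine hC k hk ?_
    have hjr : Nat.Coprime j.val (orderOf g) := by
      rw [hg]
      refine (hr.out.coprime_iff_not_dvd.mpr fun hd => hj0 ?_).symm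
      have := Nat.eq_zero_of_dvd_of_lt hd (ZMod.val_lt j)
      rwa [ZMod.val_eq_zero] at this
    obtain ⟨m, hm⟩ := exists_pow_eq_self_of_coprime hjr
    have := hck.pow_left m
    rwa [hcdef, hm] at this
  let f : K → K := fun k => ⟨(k : X) * (c * (k : X)⁻¹ * c⁻¹),
    mul_mem k.2 ((mem_normalizer_iff.mp hcn _).mp (inv_mem k.2))⟩
  have hf : Function.Injective f := by
    intro a b hab
    have h2 : (a : X) * (c * (a : X)⁻¹ * c⁻¹) = (b : X) * (c * (b : X)⁻¹ * c⁻¹) :=
      congrArg Subtype.val hab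
    have h3 : (a : X) * c * (a : X)⁻¹ = (b : X) * c * (b : X)⁻¹ := by
      have := congrArg (· * c) h2
      simpa [mul_assoc] using this
    have h4 : Commute c ((b : X)⁻¹ * a) := by
      have h5 : (b : X)⁻¹ * ((a : X) * c * (a : X)⁻¹) * (a : X) =
          (b : X)⁻¹ * ((b : X) * c * (b : X)⁻¹) * (a : X) := by rw [h3]
      simp only [mul_assoc, inv_mul_cancel, mul_one, inv_mul_cancel_left] at h5
      rw [commute_iff_eq, mul_assoc]
      exact h5.symm
    exact Subtype.ext (inv_mul_eq_one.mp (hcC _ (mul_mem (inv_mem b.2) a.2) h4)).symm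
  have heq : ∏ k : K, ψ (((k : X) * g * (k : X)⁻¹) ^ j.val) v =
      ∏ k : K, ψ (k : X) (ψ c v) := by
    refine Fintype.prod_equiv (Equiv.ofBijective f (Finite.injective_iff_bijective.mp hf)) _ _
      fun k => ?_
    rw [← MulAut.mul_apply, ← map_mul]
    refine congrArg (fun y => ψ y v) ?_
    rw [conj_pow, ← hcdef]
    simp [f, mul_assoc]
  rw [heq]
  exact prod_mem_of_subgroup hfix K hK _

omit hfix hZ

theorem mem_of_pow_mem {v : L} {m n : ℕ} (hm : v ^ m ∈ Z) (hn : v ^ n ∈ Z) (h : m.Coprime n) :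
    v ∈ Z := by
  have := Nat.gcd_eq_gcd_ab m n
  rw [h.gcd_eq_one, Nat.cast_one] at this
  rw [← zpow_one v, this, zpow_add, zpow_mul, zpow_mul, zpow_natCast, zpow_natCast]
  exact mul_mem (zpow_mem hm _) (zpow_mem hn _)

include hfix hZ

/-- A Sylow `r`-subgroup centralising an element `a` of order `r` modulo `Z` is everything, of
order `r`. -/
theorem card_eq_prime [Finite X] {r : ℕ} [hr : Fact r.Prime] (P : Sylow r X)
    (hP : (P : Subgroup X) ≠ ⊥) {a b : L} (ha : a ∉ Z) (har : a ^ r ∈ Z)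
    (hPa : ∀ g ∈ (P : Subgroup X), a⁻¹ * ψ g a ∈ Z) (hb : b ∉ Z) {n : ℕ} (hbn : b ^ n ∈ Z)
    (hnr : n.Coprime r) : Nat.card X = r := by
  have hbr : b ^ r ∉ Z := fun h => hb (mem_of_pow_mem hbn h hnr)
  have hmove : ∀ x : X, ∀ z : L, z ∈ Z → ψ x a = a * z →
      ∀ i : ℕ, ψ (x ^ i) a = a * z ^ i := by
    intro x z hz hx i
    induction i with
    | zero => simp
    | succ i ih =>
      rw [pow_succ', map_mul, MulAut.mul_apply, ih, map_mul, hx, hZ x _ (pow_mem hz i),
        mul_assoc, ← pow_succ']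
  have hzr : ∀ x : X, ∀ z : L, z ∈ Z → ψ x a = a * z → z ^ r = 1 := by
    intro x z hz hx
    have h1 := hZ x _ har
    rw [map_pow, hx, mul_pow] at h1
    exact mul_eq_left.mp h1
  have hPc : ∀ g ∈ (P : Subgroup X), ∃ z ∈ Z, ψ g a = a * z := fun g hg =>
    ⟨_, hPa g hg, (mul_inv_cancel_left a _).symm⟩
  have hexp : ∀ g ∈ (P : Subgroup X), g ^ r = 1 := by
    intro g hg
    obtain ⟨z, hz, hgz⟩ := hPc g hg
    by_contra hne
    refine ha (hfix _ hne a ?_)
    rw [hmove g z hz hgz r, hzr g z hz hgz, mul_one]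
  have hab : ∀ g ∈ (P : Subgroup X), ∀ h ∈ (P : Subgroup X), Commute g h := by
    intro g hg h hh
    obtain ⟨z, hz, hgz⟩ := hPc g hg
    obtain ⟨w, hw, hhw⟩ := hPc h hh
    have hne : ((g * h)⁻¹ * (h * g)) = 1 := by
      by_contra hne
      refine ha (hfix _ hne a ?_)
      have h1 : ψ (g * h) a = a * z * w := by
        rw [map_mul, MulAut.mul_apply, hhw, map_mul, hgz, hZ g w hw]
      have h2 : ψ (h * g) a = a * z * w := by
        rw [map_mul, MulAut.mul_apply, hgz, map_mul, hhw, hZ h z hz, mul_assoc, mul_assoc,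
          mul_comm w z]
      rw [map_mul, MulAut.mul_apply, h2, ← h1, map_inv, MulAut.inv_apply_self]
    exact (inv_mul_eq_one.mp hne)
  obtain ⟨⟨g, hgP⟩, hgne⟩ := Subgroup.ne_bot_iff_exists_ne_one.mp hP
  have hg1 : g ≠ 1 := fun h => hgne (Subtype.ext h)
  have hg : orderOf g = r := orderOf_eq_prime (hexp g hgP) hg1
  have hPg : (P : Subgroup X) = zpowers g := by
    refine le_antisymm (fun h hh => ?_) (zpowers_le.mpr hgP)
    by_contra hnot
    have hh1 : h ≠ 1 := fun e => hnot (e ▸ one_mem _)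
    exact hbr (pow_mem_of_square hfix hZ (orderOf_eq_prime (hexp h hh) hh1) hg
      (hab h hh g hgP) hnot b)
  -- no element of another prime order centralises `g`
  have htau : ∀ t : ℕ, t.Prime → t ≠ r → ∀ x : X, orderOf x = t → ¬ Commute g x := by
    intro t ht htr x hx hgx
    have hx1 : x ≠ 1 := fun e => ht.ne_one (by rw [← hx, e, orderOf_one])
    obtain ⟨c, hc, hgc⟩ := hPc g hgP
    have hzZ : a⁻¹ * ψ x a ∈ Z := by
      refine hfix g hg1 _ ?_
      rw [map_mul, map_inv, ← MulAut.mul_apply, ← map_mul, hgx.eq, map_mul, MulAut.mul_apply,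
        hgc, map_mul, hZ x c hc, mul_inv, mul_assoc, mul_comm (ψ x a) c, inv_mul_cancel_left]
    set z := a⁻¹ * ψ x a
    have hxz : ψ x a = a * z := (mul_inv_cancel_left a _).symm
    have h1 : z ^ t = 1 := by
      have := hmove x z hzZ hxz t
      rw [← hx, pow_orderOf_eq_one, map_one, MulAut.one_apply, hx] at this
      exact left_eq_mul.mp this
    have h2 := hzr x z hzZ hxz
    have h3 : z = 1 := orderOf_eq_one_iff.mp (Nat.eq_one_of_dvd_coprimes
      ((Nat.coprime_primes ht hr.out).mpr htr) (orderOf_dvd_of_pow_eq_one h1)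
      (orderOf_dvd_of_pow_eq_one h2))
    exact ha (hfix x hx1 a (by rw [hxz, h3, mul_one]))
  have hPcard : Nat.card (P : Subgroup X) = r := by rw [hPg, Nat.card_zpowers, hg]
  have hN : normalizer ((P : Subgroup X) : Set X) ≤ centralizer ((P : Subgroup X) : Set X) := by
    intro x hx
    refine mem_of_le_of_mem (fun y hy => mem_centralizer_iff.mpr fun w hw => (hab w hw y hy).eq) ?_
    by_contra hxP
    set N := normalizer ((P : Subgroup X) : Set X)
    have hPN : (P : Subgroup X) ≤ N := le_normalizer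
    have hk : Nat.card N = r * (P : Subgroup X).relIndex N := by
      conv_rhs => arg 1; rw [← hPcard, ← relIndex_bot_left]
      rw [relIndex_mul_relIndex _ _ _ bot_le hPN, relIndex_bot_left]
    have hne1 : (P : Subgroup X).relIndex N ≠ 1 := fun e => hxP (relIndex_eq_one.mp e hx)
    obtain ⟨t, ht, htd⟩ := Nat.exists_prime_and_dvd hne1
    have htr : t ≠ r := fun e => P.not_dvd_index
      ((dvd_of_eq e.symm).trans (htd.trans (relIndex_dvd_index_of_le hPN)))
    have : Fact t.Prime := ⟨ht⟩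
    obtain ⟨⟨y, hyN⟩, hy⟩ := exists_prime_orderOf_dvd_card' (G := N) t
      (hk ▸ dvd_mul_of_dvd_right htd r)
    rw [Subgroup.orderOf_mk] at hy
    refine hbr ?_
    have := pow_mem_of_frobenius hfix hZ hy (P : Subgroup X) hP hyN (fun k hk' hyk => by
      by_contra hk1
      refine htau t ht htr y hy ?_
      have hgk : g ∈ zpowers k := by
        rw [hPg] at hk'
        obtain ⟨i, rfl⟩ := hk'
        have : orderOf (g ^ i) = r := orderOf_eq_prime (by
          rw [← zpow_natCast, ← zpow_mul, mul_comm, zpow_mul, zpow_natCast, hexp g hgP, one_zpow]) hk1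
        rw [Subgroup.eq_of_le_of_card_ge (zpowers_le.mpr (zpow_mem (mem_zpowers g) i))
          (by rw [Nat.card_zpowers, Nat.card_zpowers, hg, this])]
        exact mem_zpowers g
      obtain ⟨i, hi⟩ := hgk
      simp only at hi
      rw [← hi]
      exact (hyk.zpow_right i).symm) b
    rwa [hPcard] at this
  have hcompl := MonoidHom.ker_transferSylow_isComplement' P hN
  set K := (MonoidHom.transferSylow P hN).ker
  have hcard := hcompl.card_mul_card
  rw [hPcard] at hcard
  by_cases hK : K = ⊥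
  · rw [hK, Subgroup.card_bot, one_mul] at hcard
    exact hcard.symm
  exfalso
  have hcop : (Nat.card K).Coprime r := by
    rw [← hcompl.index_eq_card]
    exact (hr.out.coprime_iff_not_dvd.mpr P.not_dvd_index).symm
  refine ha (mem_of_pow_mem (pow_mem_of_frobenius hfix hZ hg K hK ?_ ?_ a) har hcop)
  · exact (normalizer_eq_top (H := K)).ge (mem_top g)
  · intro k hk hgk
    by_contra hk1
    obtain ⟨t, ht, htd⟩ := Nat.exists_prime_and_dvd (fun e => hk1 (orderOf_eq_one_iff.mp e))
    have htr : t ≠ r := fun e => (hr.out.coprime_iff_not_dvd.mp hcop.symm)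
      ((dvd_of_eq e.symm).trans (htd.trans (Subgroup.orderOf_dvd_natCard K hk)))
    refine htau t ht htr (k ^ (orderOf k / t)) ?_ (hgk.pow_right _)
    rw [orderOf_pow_of_dvd (Nat.div_ne_zero_iff_of_dvd htd |>.mpr
      ⟨(orderOf_pos k).ne', ht.ne_zero⟩) (Nat.div_dvd_of_dvd htd),
      Nat.div_div_self htd (orderOf_pos k).ne']

end Cfsg.Lib.TwoSizes
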