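import Cfsg.Agent.Lib.TwoSizes.Basic
import Cfsg.Agent.Lib.TwoSizes.FixedFree
import Cfsg.Agent.S4035
import Cfsg.Agent.S4037
import Cfsg.Agent.Lib.Core.PSolvable

/-!
# Two class sizes of p-regular elements: the class size is a power of p

If at least two primes other than `p` have noncentral elements, no prime other than `p` divides
the common class size.
-/

set_option autoImplicit false

namespace Cfsg.Lib.TwoSizes

open Subgroup

variable {G : Type*} [Group G]

theorem mem_of_pow_mem_group {H : Subgroup G} {v : G} {m n : ℕ} (hm : v ^ m ∈ H) (hn : v ^ n ∈ H)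
    (h : m.Coprime n) : v ∈ H := by
  have := Nat.gcd_eq_gcd_ab m n
  rw [h.gcd_eq_one, Nat.cast_one] at this
  rw [← zpow_one v, this, zpow_add, zpow_mul, zpow_mul, zpow_natCast, zpow_natCast]
  exact mul_mem (zpow_mem hm _) (zpow_mem hn _)

theorem reg_conj {p : ℕ} {x g : G} (hx : (orderOf x).Coprime p) :
    (orderOf (g * x * g⁻¹)).Coprime p := by
  rwa [show g * x * g⁻¹ = MulAut.conj g x from rfl, MulEquiv.orderOf_eq]

theorem PW.conj {t : ℕ} {x : G} (g : G) (hx : PW t x) : PW t (g * x * g⁻¹) := by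
  obtain ⟨k, hk⟩ := hx
  exact ⟨k, by rw [conj_pow, hk, mul_one, mul_inv_cancel]⟩

theorem noncentral_conj {x g : G} (hx : x ∉ center G) : g * x * g⁻¹ ∉ center G := fun h => hx (by
  have := (inferInstance : (center G).Normal).conj_mem _ h g⁻¹
  simpa [mul_assoc] using this)

theorem cent_conj (x g : G) : (centralizer ({x} : Set G)).map (MulAut.conj g) =
    centralizer ({g * x * g⁻¹} : Set G) := by
  ext y
  constructor
  · rintro ⟨c, hc, rfl⟩
    exact mem_cent_iff.mpr (((mem_cent_iff.mp hc).map (MulAut.conj g).toMonoidHom))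
  · intro hy
    refine ⟨g⁻¹ * y * g, mem_cent_iff.mpr ?_, by simp [mul_assoc]⟩
    have := (mem_cent_iff.mp hy).map (MulAut.conj g⁻¹).toMonoidHom
    simpa [mul_assoc] using this

/-- The regular elements of the centraliser of `a`. -/
def regPart [Finite G] {p m : ℕ} (h : TwoReg p m G) (hp : p.Prime) (h2 : TwoPrimes p G) {a : G}
    (ha : (orderOf a).Coprime p) (haZ : a ∉ center G) : Subgroup G where
  carrier := {v | v ∈ centralizer ({a} : Set G) ∧ (orderOf v).Coprime p}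
  one_mem' := ⟨one_mem _, by simp⟩
  mul_mem' := fun {x y} hx hy => ⟨mul_mem hx.1 hy.1, reg_mul
    (mem_cent_iff.mp (h.le_cent hp h2 ha haZ hy.2 hy.1 hx.1)) hx.2 hy.2⟩
  inv_mem' := fun {x} hx => ⟨inv_mem hx.1, by rw [orderOf_inv]; exact hx.2⟩

variable [Finite G] {p m : ℕ}

section

variable (h : TwoReg p m G) (hp : p.Prime) (h2 : TwoPrimes p G)

include h

theorem NC_of_dvd {r : ℕ} [hr : Fact r.Prime] (hrm : r ∣ m) : NC r G := by
  by_contra hne
  obtain ⟨x, hx, hxZ⟩ := h.exists_noncentral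
  obtain ⟨R⟩ : Nonempty (Sylow r G) := inferInstance
  refine R.not_dvd_index (hrm.trans ?_)
  rw [← h.index_eq x hx hxZ]
  refine index_dvd_of_le fun g hg => ?_
  have hgZ : g ∈ center G := by
    by_contra hgZ
    exact hne ⟨g, PW.of_isPGroup R.2 hg, hgZ⟩
  exact mem_cent_iff.mpr (mem_center_iff.mp hgZ x).symm

include hp h2

theorem cent_eq_of_conj_mem {v : G} (hv : (orderOf v).Coprime p) (hvZ : v ∉ center G) {g : G}
    (hg : g * v * g⁻¹ ∈ centralizer ({v} : Set G)) :
    g ∈ normalizer ((centralizer ({v} : Set G)) : Set G) := by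
  rw [mem_normalizer_iff_map_conj_eq, cent_conj,
    ← h.cent_eq hp h2 hv hvZ (reg_conj hv) (noncentral_conj hvZ) hg]

end

/-- A second-centre element of a Sylow subgroup. -/
theorem exists_second_center {r : ℕ} [hr : Fact r.Prime] (hNC : NC r G) (R : Sylow r G) :
    ∃ a ∈ (R : Subgroup G), a ∉ center G ∧ a ^ r ∈ center G ∧
      ∀ g ∈ (R : Subgroup G), g * a * g⁻¹ * a⁻¹ ∈ center G := by
  set K := (center G).subgroupOf (R : Subgroup G)
  have hnt : Nontrivial ((R : Subgroup G) ⧸ K) := by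
    rw [QuotientGroup.nontrivial_iff]
    intro htop
    obtain ⟨x, hx, hxZ⟩ := hNC
    obtain ⟨S, hS⟩ := hx.isPGroup_zpowers.exists_le_sylow
    obtain ⟨g, rfl⟩ := MulAction.exists_smul_eq G R S
    have hxS := hS (mem_zpowers x)
    rw [Sylow.coe_subgroup_smul] at hxS
    rw [mem_pointwise_smul_iff_inv_smul_mem] at hxS
    have hz : MulAut.conj g⁻¹ x ∈ center G := (subgroupOf_eq_top.mp htop) (by simpa using hxS)
    exact hxZ (by simpa [mul_assoc] using (inferInstance : (center G).Normal).conj_mem _ hz g)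
  obtain ⟨⟨q, hq⟩, hq1⟩ := exists_prime_orderOf_dvd_card'
    (G := center ((R : Subgroup G) ⧸ K)) r (by
      obtain ⟨k, hk⟩ := IsPGroup.iff_card.mp ((R.2.to_quotient K).to_subgroup (center _))
      have : 1 < Nat.card (center ((R : Subgroup G) ⧸ K)) :=
        Finite.one_lt_card_iff_nontrivial.mpr (R.2.to_quotient K).center_nontrivial
      have hk0 : k ≠ 0 := fun e => by rw [hk, e, pow_zero] at this; omega
      exact hk ▸ dvd_pow_self r hk0)
  rw [Subgroup.orderOf_mk] at hq1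
  obtain ⟨⟨a, ha⟩, rfl⟩ := QuotientGroup.mk_surjective q
  refine ⟨a, ha, fun haZ => hr.out.ne_one ?_, ?_, fun g hg => ?_⟩
  · rw [← hq1, orderOf_eq_one_iff, QuotientGroup.eq_one_iff]
    exact haZ
  · have := orderOf_dvd_iff_pow_eq_one.mp hq1.dvd
    rw [← QuotientGroup.mk_pow, QuotientGroup.eq_one_iff] at this
    exact this
  · have := mem_center_iff.mp hq (QuotientGroup.mk ⟨g, hg⟩)
    have h1 : (QuotientGroup.mk ((⟨g, hg⟩ : (R : Subgroup G)) * ⟨a, ha⟩ * ⟨g, hg⟩⁻¹ * ⟨a, ha⟩⁻¹) :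
        (R : Subgroup G) ⧸ K) = 1 := by
      simp only [QuotientGroup.mk_mul, QuotientGroup.mk_inv]
      rw [this, mul_assoc (QuotientGroup.mk _) (QuotientGroup.mk _) _, mul_inv_cancel, mul_one,
        mul_inv_cancel]
    rw [QuotientGroup.eq_one_iff] at h1
    exact h1

/-- The hypotheses of the main argument. -/
structure Setup (p m r : ℕ) (G : Type*) [Group G] [Finite G] [Fact r.Prime] where
  h : TwoReg p m G
  hp : p.Prime
  h2 : TwoPrimes p G
  hrp : r ≠ p
  hrm : r ∣ m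
  R : Sylow r G
  a : G
  haR : a ∈ (R : Subgroup G)
  haZ : a ∉ center G
  har : a ^ r ∈ center G
  hRa : ∀ g ∈ (R : Subgroup G), g * a * g⁻¹ * a⁻¹ ∈ center G

variable {r : ℕ} [hr : Fact r.Prime] (D : Setup p m r G)

/-- The centraliser of the chosen element. -/
abbrev Setup.C : Subgroup G := centralizer ({D.a} : Set G)

theorem Setup.reg_a : (orderOf D.a).Coprime p :=
  (PW.of_isPGroup D.R.2 D.haR).reg hr.out D.hp D.hrp

theorem Setup.index_C : D.C.index = m := D.h.index_eq _ D.reg_a D.haZ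

theorem Setup.cent_eq {v : G} (hv : (orderOf v).Coprime p) (hvZ : v ∉ center G) (hvC : v ∈ D.C) :
    D.C = centralizer ({v} : Set G) :=
  D.h.cent_eq D.hp D.h2 D.reg_a D.haZ hv hvZ hvC

theorem Setup.commute {v g : G} (hv : (orderOf v).Coprime p) (hvC : v ∈ D.C) (hg : g ∈ D.C) :
    Commute g v :=
  mem_cent_iff.mp (D.h.le_cent D.hp D.h2 D.reg_a D.haZ hv hvC hg)

theorem Setup.R_le_normalizer : (D.R : Subgroup G) ≤ normalizer (D.C : Set G) := fun g hg => by
  refine cent_eq_of_conj_mem D.h D.hp D.h2 D.reg_a D.haZ (mem_cent_iff.mpr ?_)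
  have h1 : g * D.a * g⁻¹ = g * D.a * g⁻¹ * D.a⁻¹ * D.a := (inv_mul_cancel_right _ _).symm
  rw [h1]
  exact Commute.mul_left (mem_center_iff.mp (D.hRa g hg) D.a).symm (Commute.refl _)

theorem Setup.exists_R_not_mem : ∃ g ∈ (D.R : Subgroup G), g ∉ D.C := by
  by_contra hne
  refine D.R.not_dvd_index (D.hrm.trans ((dvd_of_eq D.index_C.symm).trans (index_dvd_of_le fun g hg => ?_)))
  by_contra hg'
  exact hne ⟨g, hg, hg'⟩

/-- The regular part of the centraliser. -/
abbrev Setup.L : Subgroup G := regPart D.h D.hp D.h2 D.reg_a D.haZ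

theorem Setup.L_comm (v w : D.L) : v * w = w * v :=
  Subtype.ext (D.commute w.2.2 w.2.1 v.2.1).eq

theorem Setup.conj_mem_L {g : G} (hg : g ∈ normalizer (D.C : Set G)) {v : G} (hv : v ∈ D.L) :
    g * v * g⁻¹ ∈ D.L :=
  ⟨(mem_normalizer_iff.mp hg v).mp hv.1, reg_conj hv.2⟩

/-- Conjugation of the regular part by the normaliser. -/
def Setup.conjL : normalizer (D.C : Set G) →* MulAut D.L where
  toFun g :=
    { toFun := fun v => ⟨(g : G) * v * (g : G)⁻¹, D.conj_mem_L g.2 v.2⟩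
      invFun := fun v => ⟨(g : G)⁻¹ * v * g, by
        simpa using D.conj_mem_L (inv_mem g.2) v.2⟩
      left_inv := fun v => Subtype.ext (by simp [mul_assoc])
      right_inv := fun v => Subtype.ext (by simp [mul_assoc])
      map_mul' := fun v w => Subtype.ext (by simp [mul_assoc]) }
  map_one' := MulEquiv.ext fun v => Subtype.ext (by simp)
  map_mul' g k := MulEquiv.ext fun v => Subtype.ext (by simp [mul_assoc])

/-- The induced action of the quotient by the centraliser. -/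
def Setup.actL : normalizer (D.C : Set G) ⧸ D.C.subgroupOf (normalizer (D.C : Set G)) →* MulAut D.L :=
  QuotientGroup.lift _ D.conjL fun g hg => MulEquiv.ext fun v => Subtype.ext (by
    show (g : G) * v * (g : G)⁻¹ = v
    have h1 : (g : G) * v = v * g := (D.commute v.2.2 v.2.1 hg).eq
    rw [h1, mul_inv_cancel_right])

theorem Setup.card_normalizer_quot :
    Nat.card (normalizer (D.C : Set G) ⧸ D.C.subgroupOf (normalizer (D.C : Set G))) = r := by
  classical
  letI : CommGroup D.L := { (inferInstance : Group D.L) with mul_comm := D.L_comm }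
  set N := normalizer (D.C : Set G)
  set K := D.C.subgroupOf N
  let P : Sylow r (N ⧸ K) :=
    (D.R.subtype D.R_le_normalizer).mapSurjective (QuotientGroup.mk'_surjective K)
  obtain ⟨u, hur, hu, hup, hNC⟩ := D.h2 r
  obtain ⟨b, hbC, hbu, hbZ⟩ := D.h.exists_NC_mem D.hp hu hup hNC D.reg_a D.haZ
  obtain ⟨k, hk⟩ := hbu
  have hbL : b ∈ D.L := ⟨hbC, PW.reg hu D.hp hup ⟨k, hk⟩⟩
  have haL : D.a ∈ D.L := ⟨mem_cent_iff.mpr (Commute.refl _), D.reg_a⟩
  refine card_eq_prime (ψ := D.actL) (Z := (center G).subgroupOf D.L) ?_ ?_ P ?_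
    (a := ⟨D.a, haL⟩) (b := ⟨b, hbL⟩) D.haZ D.har ?_ hbZ (n := u ^ k) ?_
    (((Nat.coprime_primes hu hr.out).mpr hur).pow_left k)
  · intro x hx v hv
    obtain ⟨g, rfl⟩ := QuotientGroup.mk_surjective x
    by_contra hvZ
    refine hx ((QuotientGroup.eq_one_iff g).mpr ?_)
    have h1 : (g : G) * v * (g : G)⁻¹ = v := congrArg Subtype.val hv
    show (g : G) ∈ D.C
    exact (D.cent_eq v.2.2 hvZ v.2.1).ge (mem_cent_iff.mpr (mul_inv_eq_iff_eq_mul.mp h1))
  · intro x z hz
    obtain ⟨g, rfl⟩ := QuotientGroup.mk_surjective x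
    refine Subtype.ext ?_
    show (g : G) * z * (g : G)⁻¹ = z
    have h1 : (g : G) * z = z * g := mem_center_iff.mp hz (g : G)
    rw [h1, mul_inv_cancel_right]
  · obtain ⟨g, hgR, hgC⟩ := D.exists_R_not_mem
    intro hbot
    have hmem : ((⟨g, D.R_le_normalizer hgR⟩ : N) : N ⧸ K) ∈ (P : Subgroup (N ⧸ K)) :=
      mem_map.mpr ⟨⟨g, D.R_le_normalizer hgR⟩, hgR, rfl⟩
    rw [hbot, mem_bot, QuotientGroup.eq_one_iff] at hmem
    exact hgC hmem
  · rintro _ ⟨g, hg, rfl⟩
    show D.a⁻¹ * ((g : G) * D.a * (g : G)⁻¹) ∈ center G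
    have h1 := D.hRa g hg
    have h2 := (inferInstance : (center G).Normal).conj_mem _ h1 D.a⁻¹
    simpa [mul_assoc] using h2
  · show b ^ (u ^ k) ∈ center G
    rw [hk]
    exact one_mem _

theorem Setup.mem_C_of_normalizes {t : ℕ} (ht : t.Prime) (htr : t ≠ r) {g : G}
    (hg : g ∈ normalizer (D.C : Set G)) (hgt : PW t g) : g ∈ D.C := by
  obtain ⟨k, hk⟩ := hgt
  set N := normalizer (D.C : Set G)
  set K := D.C.subgroupOf N
  have h1 : ((⟨g, hg⟩ : N) : N ⧸ K) ^ t ^ k = 1 := by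
    rw [← QuotientGroup.mk_pow, show (⟨g, hg⟩ : N) ^ t ^ k = 1 from Subtype.ext (by simpa using hk)]
    rfl
  have h2 := orderOf_dvd_natCard ((⟨g, hg⟩ : N) : N ⧸ K)
  rw [D.card_normalizer_quot] at h2
  have h3 := Nat.eq_one_of_dvd_coprimes (((Nat.coprime_primes ht hr.out).mpr htr).pow_left k)
    (orderOf_dvd_of_pow_eq_one h1) h2
  rw [orderOf_eq_one_iff, QuotientGroup.eq_one_iff] at h3
  exact h3

/-- A Sylow subgroup for a prime other than `p`, `r` inside the centraliser. -/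
theorem Setup.exists_sylow_le {t : ℕ} [ht : Fact t.Prime] (htp : t ≠ p) (htr : t ≠ r) :
    ∃ S : Sylow t G, (S : Subgroup G) ≤ D.C := by
  by_cases hNC : NC t G
  swap
  · obtain ⟨S⟩ : Nonempty (Sylow t G) := inferInstance
    refine ⟨S, fun g hg => mem_cent_iff.mpr (mem_center_iff.mp ?_ D.a).symm⟩
    by_contra hgZ
    exact hNC ⟨g, PW.of_isPGroup S.2 hg, hgZ⟩
  obtain ⟨z, hzC, hzt, hzZ⟩ := D.h.exists_NC_mem D.hp ht.out htp hNC D.reg_a D.haZ
  obtain ⟨T, hT⟩ := (PW.isPGroup_zpowers (G := D.C) (x := ⟨z, hzC⟩) (t := t) (by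
    obtain ⟨k, hk⟩ := hzt
    exact ⟨k, Subtype.ext (by simpa using hk)⟩)).exists_le_sylow
  set S0 := (T : Subgroup D.C).map D.C.subtype with hS0
  have hzS0 : z ∈ S0 := ⟨⟨z, hzC⟩, hT (mem_zpowers _), rfl⟩
  have hS0C : S0 ≤ D.C := map_subtype_le _
  obtain ⟨S, hS⟩ := (T.2.map D.C.subtype).exists_le_sylow
  refine ⟨S, ?_⟩
  suffices (S : Subgroup G) ≤ S0 from this.trans hS0C
  intro x hx
  by_contra hxS0
  have : Group.IsNilpotent (S : Subgroup G) := S.2.isNilpotent
  have hlt := Group.normalizerCondition_of_isNilpotent (S0.subgroupOf (S : Subgroup G))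
    (lt_top_iff_ne_top.mpr fun htop => hxS0 (subgroupOf_eq_top.mp htop hx))
  obtain ⟨⟨g, hgS⟩, hgn, hg0⟩ := SetLike.exists_of_lt hlt
  have hconj : ∀ y ∈ S0, g * y * g⁻¹ ∈ S0 := fun y hy =>
    ((mem_normalizer_iff.mp hgn ⟨y, hS hy⟩).mp hy)
  have hgN : g ∈ normalizer (D.C : Set G) := by
    have hzr := hzt.reg ht.out D.hp htp
    have h1 := cent_eq_of_conj_mem D.h D.hp D.h2 hzr hzZ (g := g)
      (by rw [← D.cent_eq hzr hzZ hzC]; exact hS0C (hconj z hzS0))
    rwa [← D.cent_eq hzr hzZ hzC] at h1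
  have hgC := D.mem_C_of_normalizes ht.out htr hgN (PW.of_isPGroup S.2 hgS)
  have h3 : ((S : Subgroup G).subgroupOf D.C) = (T : Subgroup D.C) := T.3
    (S.2.comap_of_injective D.C.subtype Subtype.coe_injective)
    (fun y hy => hS ⟨y, hy, rfl⟩)
  refine hg0 ?_
  show g ∈ S0
  refine ⟨⟨g, hgC⟩, ?_, rfl⟩
  show (⟨g, hgC⟩ : D.C) ∈ (T : Subgroup D.C)
  rw [← h3]
  exact hgS

theorem Setup.mem_of_PW {t : ℕ} [ht : Fact t.Prime] (htp : t ≠ p) {S : Sylow t G}
    (hS : (S : Subgroup G) ≤ D.C) {v : G} (hv : v ∈ D.C) (hvt : PW t v) :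
    v ∈ (S : Subgroup G) := by
  have hn : zpowers v ≤ normalizer ((S : Subgroup G) : Set G) := by
    rw [zpowers_le, mem_normalizer_iff]
    intro s
    constructor
    · intro hs
      rwa [(D.commute ((PW.of_isPGroup S.2 hs).reg ht.out D.hp htp) (hS hs) hv).eq,
        mul_inv_cancel_right]
    · intro hs
      have h1 := (D.commute ((PW.of_isPGroup S.2 hs).reg ht.out D.hp htp) (hS hs) hv).eq
      have h2 : v * s * v⁻¹ = s := mul_left_cancel (h1.trans (inv_mul_cancel_right _ _))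
      rwa [← h2]
  have := S.3 (IsPGroup.to_sup_of_normal_right' hvt.isPGroup_zpowers S.2 hn) le_sup_right
  rw [← this]
  exact mem_sup_left (mem_zpowers v)

end Cfsg.Lib.TwoSizes
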