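import Mathlib

/-!
# Groups whose p-regular classes have two sizes: elementary facts

If `p`-regular noncentral elements all have centralisers of the same index `m`, then commuting
is transitive on them as soon as two primes other than `p` have noncentral elements.
-/

set_option autoImplicit false

namespace Cfsg.Lib.TwoSizes

open Subgroup

variable {G : Type*} [Group G]

/-- The element `x` has order a power of `t`. -/
def PW (t : ℕ) (x : G) : Prop := ∃ k : ℕ, x ^ t ^ k = 1

/-- Noncentral `p`-regular elements have centralisers of index `m`, and `m` is not `1`. -/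
structure TwoReg (p m : ℕ) (G : Type*) [Group G] : Prop where
  index_eq : ∀ x : G, (orderOf x).Coprime p → x ∉ center G →
    (centralizer ({x} : Set G)).index = m
  exists_noncentral : ∃ x : G, (orderOf x).Coprime p ∧ x ∉ center G

/-- The prime `t` has a noncentral element of `t`-power order. -/
def NC (t : ℕ) (G : Type*) [Group G] : Prop := ∃ x : G, PW t x ∧ x ∉ center G

theorem PW.reg {t p : ℕ} (ht : t.Prime) (hp : p.Prime) (htp : t ≠ p) {x : G} (hx : PW t x) :
    (orderOf x).Coprime p := by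
  obtain ⟨k, hk⟩ := hx
  exact (((Nat.coprime_primes ht hp).mpr htp).pow_left k).coprime_dvd_left
    (orderOf_dvd_of_pow_eq_one hk)

theorem PW.coprime {t u : ℕ} (ht : t.Prime) (hu : u.Prime) (htu : t ≠ u) {x y : G}
    (hx : PW t x) (hy : PW u y) : (orderOf x).Coprime (orderOf y) := by
  obtain ⟨k, hk⟩ := hx
  obtain ⟨l, hl⟩ := hy
  exact ((((Nat.coprime_primes ht hu).mpr htu).pow k l).coprime_dvd_left
    (orderOf_dvd_of_pow_eq_one hk)).coprime_dvd_right (orderOf_dvd_of_pow_eq_one hl)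

theorem PW.of_isPGroup {t : ℕ} {H : Subgroup G} (hH : IsPGroup t H) {x : G} (hx : x ∈ H) :
    PW t x := by
  obtain ⟨k, hk⟩ := hH ⟨x, hx⟩
  exact ⟨k, by simpa using congrArg Subtype.val hk⟩

theorem PW.isPGroup_zpowers {t : ℕ} [Fact t.Prime] {x : G} (hx : PW t x) :
    IsPGroup t (zpowers x) := by
  obtain ⟨k, hk⟩ := hx
  rintro ⟨_, i, rfl⟩
  refine ⟨k, Subtype.ext ?_⟩
  simp only [SubmonoidClass.coe_pow, OneMemClass.coe_one]
  rw [← zpow_natCast, ← zpow_mul, mul_comm, zpow_mul, zpow_natCast, hk, one_zpow]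

/-- An element lies in a subgroup if all its prime-power parts do. -/
theorem mem_of_parts [Finite G] {x : G} {H : Subgroup G}
    (h : ∀ t : ℕ, t.Prime → t ∣ orderOf x → ∀ i : ℕ, PW t (x ^ i) → x ^ i ∈ H) : x ∈ H := by
  obtain ⟨d, hd⟩ := Int.subgroup_cyclic (H.toAddSubgroup.comap
    (MonoidHom.toAdditiveRight (zpowersHom G x)))
  have hmem : ∀ k : ℤ, x ^ k ∈ H ↔ d ∣ k := by
    intro k
    have : k ∈ H.toAddSubgroup.comap (MonoidHom.toAdditiveRight (zpowersHom G x)) ↔ d ∣ k := by
      rw [hd, AddSubgroup.mem_closure_singleton]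
      constructor
      · rintro ⟨j, rfl⟩; exact ⟨j, by rw [smul_eq_mul, mul_comm]⟩
      · rintro ⟨j, rfl⟩; exact ⟨j, by rw [smul_eq_mul, mul_comm]⟩
    exact this
  by_cases h1 : d.natAbs = 1
  · simpa using (hmem 1).mpr (Int.natAbs_dvd_natAbs.mp (by simp [h1]))
  exfalso
  obtain ⟨t, ht, htd⟩ := Nat.exists_prime_and_dvd h1
  have hdn : d.natAbs ∣ orderOf x := by
    have := (hmem (orderOf x : ℤ)).mp (by rw [zpow_natCast, pow_orderOf_eq_one]; exact H.one_mem)
    simpa using Int.natAbs_dvd_natAbs.mpr this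
  set n := orderOf x
  have hn : n ≠ 0 := (orderOf_pos x).ne'
  have hi := h t ht (htd.trans hdn) (n / t ^ n.factorization t) ⟨n.factorization t, by
    rw [← pow_mul, mul_comm, Nat.ordProj_mul_ordCompl_eq_self, pow_orderOf_eq_one]⟩
  rw [← zpow_natCast] at hi
  have := Int.natAbs_dvd_natAbs.mpr ((hmem _).mp hi)
  rw [Int.natAbs_natCast] at this
  exact Nat.not_dvd_ordCompl ht hn (htd.trans this)

theorem reg_mul {p : ℕ} {x y : G} (hxy : Commute x y) (hx : (orderOf x).Coprime p)
    (hy : (orderOf y).Coprime p) : (orderOf (x * y)).Coprime p :=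
  (Nat.Coprime.mul_left hx hy).coprime_dvd_left hxy.orderOf_mul_dvd_mul_orderOf

theorem reg_of_mem_zpowers {p : ℕ} {x y : G} (hx : (orderOf x).Coprime p)
    (hy : y ∈ zpowers x) : (orderOf y).Coprime p :=
  hx.coprime_dvd_left (orderOf_dvd_of_mem_zpowers hy)

theorem commute_of_commute_mul {x y g : G} (hxy : Commute x y)
    (hc : (orderOf x).Coprime (orderOf y)) (hg : Commute g (x * y)) : Commute g x := by
  obtain ⟨m, hm⟩ := exists_pow_eq_self_of_coprime (x := x) hc.symm
  have h1 : (x * y) ^ orderOf y = x ^ orderOf y := by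
    rw [hxy.mul_pow, pow_orderOf_eq_one, mul_one]
  have h2 : Commute g ((x ^ orderOf y) ^ m) := by
    rw [← h1]; exact (hg.pow_right _).pow_right _
  rwa [hm] at h2

theorem mem_cent_iff {x g : G} : g ∈ centralizer ({x} : Set G) ↔ Commute g x :=
  mem_centralizer_singleton_iff

theorem cent_mono_of_mem_zpowers {x y : G} (hy : y ∈ zpowers x) :
    centralizer ({x} : Set G) ≤ centralizer ({y} : Set G) := by
  intro g hg
  obtain ⟨i, rfl⟩ := hy
  exact mem_cent_iff.mpr ((mem_cent_iff.mp hg).zpow_right i)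

section

variable [Finite G]

theorem eq_of_le_of_index {H K : Subgroup G} (hle : H ≤ K) (h : H.index = K.index) : H = K := by
  refine Subgroup.eq_of_le_of_card_ge hle (le_of_eq ?_)
  have h1 := H.index_mul_card
  rw [h, ← K.index_mul_card] at h1
  exact (mul_left_cancel₀ Subgroup.index_ne_zero_of_finite h1).symm

theorem sylow_le_center {t : ℕ} [Fact t.Prime] (C : Subgroup G)
    (h : ∀ g ∈ C, PW t g → g ∈ center G) :
    ∀ S : Sylow t C, (S : Subgroup C).map C.subtype ≤ center G := by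
  rintro S _ ⟨g, hg, rfl⟩
  exact h _ g.2 (PW.of_isPGroup (S.2.map C.subtype) ⟨g, hg, rfl⟩)

variable {p m : ℕ}

theorem TwoReg.cent_eq_of_le (h : TwoReg p m G) {x y : G} (hx : (orderOf x).Coprime p)
    (hxZ : x ∉ center G) (hy : (orderOf y).Coprime p) (hyZ : y ∉ center G)
    (hle : centralizer ({x} : Set G) ≤ centralizer ({y} : Set G)) :
    centralizer ({x} : Set G) = centralizer ({y} : Set G) :=
  eq_of_le_of_index hle (by rw [h.index_eq x hx hxZ, h.index_eq y hy hyZ])

theorem TwoReg.card_cent_eq (h : TwoReg p m G) {x y : G} (hx : (orderOf x).Coprime p)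
    (hxZ : x ∉ center G) (hy : (orderOf y).Coprime p) (hyZ : y ∉ center G) :
    Nat.card (centralizer ({x} : Set G)) = Nat.card (centralizer ({y} : Set G)) := by
  have h1 := (centralizer ({x} : Set G)).index_mul_card
  rw [h.index_eq x hx hxZ, ← (centralizer ({y} : Set G)).index_mul_card,
    h.index_eq y hy hyZ] at h1
  refine mul_left_cancel₀ ?_ h1
  rw [← h.index_eq x hx hxZ]
  exact Subgroup.index_ne_zero_of_finite

theorem TwoReg.cent_eq_coprime (h : TwoReg p m G) {x y : G} (hxy : Commute x y)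
    (hx : (orderOf x).Coprime p) (hxZ : x ∉ center G) (hy : (orderOf y).Coprime p)
    (hyZ : y ∉ center G) (hc : (orderOf x).Coprime (orderOf y)) :
    centralizer ({x} : Set G) = centralizer ({y} : Set G) := by
  have hmul := reg_mul hxy hx hy
  have h1 : ∀ g, g ∈ centralizer ({x * y} : Set G) → Commute g x ∧ Commute g y := fun g hg =>
    ⟨commute_of_commute_mul hxy hc (mem_cent_iff.mp hg),
      commute_of_commute_mul hxy.symm hc.symm (hxy.eq ▸ mem_cent_iff.mp hg)⟩
  have hZ : x * y ∉ center G := by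
    intro hZ
    refine hxZ (mem_center_iff.mpr fun g => ?_)
    exact (h1 g (mem_cent_iff.mpr (mem_center_iff.mp hZ g))).1.eq
  rw [← h.cent_eq_of_le hmul hZ hx hxZ (fun g hg => mem_cent_iff.mpr (h1 g hg).1),
    h.cent_eq_of_le hmul hZ hy hyZ (fun g hg => mem_cent_iff.mpr (h1 g hg).2)]

theorem exists_part {x : G} (hp : p.Prime) (hx : (orderOf x).Coprime p) (hxZ : x ∉ center G) :
    ∃ t : ℕ, t.Prime ∧ t ≠ p ∧ ∃ y ∈ zpowers x, PW t y ∧ y ∉ center G := by
  by_contra hne
  refine hxZ (mem_of_parts fun t ht htn i hi => ?_)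
  by_contra hi'
  refine hne ⟨t, ht, ?_, x ^ i, pow_mem (mem_zpowers x) i, hi, hi'⟩
  rintro rfl
  exact (hp.coprime_iff_not_dvd.mp hx.symm) htn

theorem TwoReg.exists_NC (h : TwoReg p m G) (hp : p.Prime) :
    ∃ t : ℕ, t.Prime ∧ t ≠ p ∧ NC t G := by
  obtain ⟨x, hx, hxZ⟩ := h.exists_noncentral
  obtain ⟨t, ht, htp, y, -, hy, hyZ⟩ := exists_part hp hx hxZ
  exact ⟨t, ht, htp, y, hy, hyZ⟩

/-- A centraliser of a noncentral regular element has noncentral `r`-elements. -/
theorem TwoReg.exists_NC_mem (h : TwoReg p m G) (hp : p.Prime) {r : ℕ} (hr : r.Prime)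
    (hrp : r ≠ p) (hNC : NC r G) {x : G} (hx : (orderOf x).Coprime p) (hxZ : x ∉ center G) :
    ∃ z ∈ centralizer ({x} : Set G), PW r z ∧ z ∉ center G := by
  by_contra hne
  have : Fact r.Prime := ⟨hr⟩
  have hall : ∀ z ∈ centralizer ({x} : Set G), PW r z → z ∈ center G := fun z hz hzr => by
    by_contra hzZ; exact hne ⟨z, hz, hzr, hzZ⟩
  obtain ⟨y, hy, hyZ⟩ := hNC
  obtain ⟨S⟩ : Nonempty (Sylow r (centralizer ({x} : Set G))) := inferInstance
  set S0 := (S : Subgroup (centralizer ({x} : Set G))).map (centralizer ({x} : Set G)).subtype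
  have hS0 : S0 ≤ center G := sylow_le_center _ hall S
  have hyS : y ∉ S0 := fun hy' => hyZ (hS0 hy')
  have hn : zpowers y ≤ normalizer (S0 : Set G) := by
    intro g _
    rw [mem_normalizer_iff]
    intro s
    constructor
    · intro hs
      rwa [mem_center_iff.mp (hS0 hs) g, mul_assoc, mul_inv_cancel, mul_one]
    · intro hs
      have := mem_center_iff.mp (hS0 hs) g
      have h2 : g * (g * s * g⁻¹) * g⁻¹ = g * s * g⁻¹ := by rw [this, mul_assoc, mul_inv_cancel, mul_one]
      have h3 : g * s * g⁻¹ = s := mul_left_cancel (mul_right_cancel h2)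
      rwa [← h3]
  set T := zpowers y ⊔ S0
  have hT : IsPGroup r T :=
    IsPGroup.to_sup_of_normal_right' hy.isPGroup_zpowers (S.2.map _) hn
  have hTC : T ≤ centralizer ({y} : Set G) := by
    refine sup_le ?_ fun s hs => mem_cent_iff.mpr (mem_center_iff.mp (hS0 hs) y).symm
    rw [zpowers_le, mem_cent_iff]
  have hlt : Nat.card S0 < Nat.card T := by
    refine lt_of_le_of_ne (Subgroup.card_le_of_le le_sup_right) fun he => hyS ?_
    rw [Subgroup.eq_of_le_of_card_ge (le_sup_right : S0 ≤ T) he.ge]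
    exact mem_sup_left (mem_zpowers y)
  obtain ⟨k, hk⟩ := IsPGroup.iff_card.mp hT
  have hdvd : Nat.card T ∣ Nat.card (centralizer ({x} : Set G)) := by
    rw [h.card_cent_eq hx hxZ (hy.reg hr hp hrp) hyZ]
    exact Subgroup.card_dvd_of_le hTC
  have hS : Nat.card S0 = r ^ (Nat.card (centralizer ({x} : Set G))).factorization r := by
    rw [Subgroup.card_map_of_injective (Subgroup.subtype_injective _)]
    exact S.card_eq_multiplicity
  rw [hk] at hdvd hlt
  rw [hS] at hlt
  exact absurd ((hr.pow_dvd_iff_le_factorization Nat.card_pos.ne').mp hdvd)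
    (not_le.mpr ((Nat.pow_lt_pow_iff_right hr.one_lt).mp hlt))

/-- Two primes other than `p` have noncentral elements. -/
def TwoPrimes (p : ℕ) (G : Type*) [Group G] : Prop :=
  ∀ t : ℕ, ∃ u : ℕ, u ≠ t ∧ u.Prime ∧ u ≠ p ∧ NC u G

/-- Regular elements of the centraliser of a regular noncentral prime power element are central
in it. -/
theorem TwoReg.le_cent_of_PW (h : TwoReg p m G) (hp : p.Prime) (h2 : TwoPrimes p G) {q : ℕ}
    (hq : q.Prime) (hqp : q ≠ p) {x : G} (hx : PW q x) (hxZ : x ∉ center G) {v : G}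
    (hv : (orderOf v).Coprime p) (hvx : v ∈ centralizer ({x} : Set G)) :
    centralizer ({x} : Set G) ≤ centralizer ({v} : Set G) := by
  have hxr := hx.reg hq hp hqp
  suffices key : ∀ t : ℕ, t.Prime → t ≠ p → ∀ w ∈ centralizer ({x} : Set G), PW t w →
      centralizer ({x} : Set G) ≤ centralizer ({w} : Set G) by
    intro g hg
    rw [mem_cent_iff]
    have : v ∈ centralizer ({g} : Set G) := mem_of_parts fun t ht htv i hi => by
      have htp : t ≠ p := by
        rintro rfl
        exact (hp.coprime_iff_not_dvd.mp hv.symm) htv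
      exact mem_cent_iff.mpr (mem_cent_iff.mp (key t ht htp _ (pow_mem hvx i) hi hg)).symm
    exact (mem_cent_iff.mp this).symm
  intro t ht htp w hw hwt
  by_cases hwZ : w ∈ center G
  · intro g _
    exact mem_cent_iff.mpr (mem_center_iff.mp hwZ g)
  by_cases htq : t = q
  · subst htq
    obtain ⟨u, hut, hu, hup, hNC⟩ := h2 t
    obtain ⟨z, hz, hzu, hzZ⟩ := h.exists_NC_mem hp hu hup hNC hxr hxZ
    have h1 := h.cent_eq_coprime (mem_cent_iff.mp hz).symm hxr hxZ (hzu.reg hu hp hup) hzZ
      (hx.coprime hq hu hut.symm hzu)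
    rw [h1] at hw ⊢
    rw [h.cent_eq_coprime (mem_cent_iff.mp hw).symm (hzu.reg hu hp hup) hzZ
      (hwt.reg ht hp htp) hwZ (hzu.coprime hu ht hut hwt)]
  · rw [h.cent_eq_coprime (mem_cent_iff.mp hw).symm hxr hxZ (hwt.reg ht hp htp) hwZ
      (hx.coprime hq ht (Ne.symm htq) hwt)]

/-- Commuting is transitive on regular noncentral elements. -/
theorem TwoReg.le_cent (h : TwoReg p m G) (hp : p.Prime) (h2 : TwoPrimes p G)
    {x : G} (hx : (orderOf x).Coprime p) (hxZ : x ∉ center G) {v : G}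
    (hv : (orderOf v).Coprime p) (hvx : v ∈ centralizer ({x} : Set G)) :
    centralizer ({x} : Set G) ≤ centralizer ({v} : Set G) := by
  obtain ⟨q, hq, hqp, y, hy, hyq, hyZ⟩ := exists_part hp hx hxZ
  have h1 := h.cent_eq_of_le hx hxZ (hyq.reg hq hp hqp) hyZ (cent_mono_of_mem_zpowers hy)
  rw [h1] at hvx ⊢
  exact h.le_cent_of_PW hp h2 hq hqp hyq hyZ hv hvx

theorem TwoReg.cent_eq (h : TwoReg p m G) (hp : p.Prime) (h2 : TwoPrimes p G)
    {x : G} (hx : (orderOf x).Coprime p) (hxZ : x ∉ center G) {v : G}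
    (hv : (orderOf v).Coprime p) (hvZ : v ∉ center G) (hvx : v ∈ centralizer ({x} : Set G)) :
    centralizer ({x} : Set G) = centralizer ({v} : Set G) :=
  h.cent_eq_of_le hx hxZ hv hvZ (h.le_cent hp h2 hx hxZ hv hvx)

end

end Cfsg.Lib.TwoSizes
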